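import Groth.Agent.KoszTenLib.Cone

/-!
The tensor product of Koszul complexes is the Koszul complex of the concatenation.
-/

set_option autoImplicit false
universe u

open CategoryTheory CategoryTheory.Limits MonoidalCategory HomologicalComplex
open CochainComplex (mappingCone)

namespace KoszTenLib

variable {A : Type u} [CommRing A]

/-- Isomorphic complexes have isomorphic cones of scalar multiplications. -/
noncomputable def coneMapIso {Z Z' : DRing.Cx A} (e : Z ≅ Z') (r : A) :
    mappingCone (r • 𝟙 Z) ≅ mappingCone (r • 𝟙 Z') where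
  hom := CochainComplex.mappingCone.map (r • 𝟙 Z) (r • 𝟙 Z') e.hom e.hom (by simp)
  inv := CochainComplex.mappingCone.map (r • 𝟙 Z') (r • 𝟙 Z) e.inv e.inv (by simp)
  hom_inv_id := by
    rw [← CochainComplex.mappingCone.map_comp]
    simp only [Iso.hom_inv_id]
    exact CochainComplex.mappingCone.map_id _
  inv_hom_id := by
    rw [← CochainComplex.mappingCone.map_comp]
    simp only [Iso.inv_hom_id]
    exact CochainComplex.mappingCone.map_id _

/-- `K(f) ⊗ K ≅` the iterated cone over `K`. -/
theorem nonempty_koszul_tensor (g : List A) : ∀ f : List A,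
    Nonempty (KFlatLib.tT (Koszul.koszul A f) (Koszul.koszul A g) ≅ Koszul.koszul A (f ++ g))
  | [] => ⟨(λ_ (Koszul.koszul A g) :
      (𝟙_ (DRing.Cx A)) ⊗ Koszul.koszul A g ≅ Koszul.koszul A g)⟩
  | r :: l => by
    obtain ⟨e⟩ := nonempty_koszul_tensor g l
    let K := Koszul.koszul A g
    refine ⟨coneIso (r • 𝟙 (Koszul.koszul A l)) K ≪≫
      eqToIso (congrArg (fun ψ => mappingCone ψ) (mapT_smul_id (X := Koszul.koszul A l) K r)) ≪≫ coneMapIso e r⟩

end KoszTenLib
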