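import Groth.Agent.KFlatLib.Alg
import Groth.Agent.DTenLib.ProKoszulH
import Groth.Prelude.Def_Koszul

/-!
Mapping cones commute with tensoring on the right.
-/

set_option autoImplicit false
universe u

open CategoryTheory CategoryTheory.Limits MonoidalCategory HomologicalComplex
open CochainComplex (mappingCone)
open CochainComplex.HomComplex (Cochain δ δ_v)

namespace KoszTenLib

variable {A : Type u} [CommRing A] {X Y : DRing.Cx A} (φ : X ⟶ Y) (K : DRing.Cx A)

open KFlatLib (ιT ιT_d tT)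

/-- `- ⊗ K` on maps. -/
noncomputable abbrev mapT {X' Y' : DRing.Cx A} (ψ : X' ⟶ Y') : tT X' K ⟶ tT Y' K :=
  mapBifunctorMap ψ (𝟙 K) (curriedTensor (ModuleCat.{u} A)) (ComplexShape.up ℤ)

theorem ιT_map {X' Y' : DRing.Cx A} (ψ : X' ⟶ Y') (p q n : ℤ) (h : p + q = n) :
    ιT X' K p q n h ≫ (mapT K ψ).f n = ψ.f p ▷ K.X q ≫ ιT Y' K p q n h := by
  refine (ι_mapBifunctorMap _ _ _ _ p q n h).trans ?_
  simp

theorem hom_extT {X' : DRing.Cx A} {n : ℤ} {W : ModuleCat.{u} A} {a b : (tT X' K).X n ⟶ W}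
    (h : ∀ (p q : ℤ) (hpq : p + q = n), ιT X' K p q n hpq ≫ a = ιT X' K p q n hpq ≫ b) : a = b :=
  mapBifunctor.hom_ext h

theorem ιT_d' (L : DRing.Cx A) (p p' q n n' : ℤ) (h : p + q = n) (hn : n + 1 = n') (hp : p + 1 = p') :
    ιT L K p q n h ≫ (tT L K).d n n' =
      L.d p p' ▷ K.X q ≫ ιT L K p' q n' (by omega) +
        p.negOnePow • (L.X p ◁ K.d q (q + 1) ≫ ιT L K p (q + 1) n' (by omega)) := by
  subst hp
  exact ιT_d L K p q n n' h hn

/-- The cochain `x ⊗ k ↦ inl x ⊗ k`. -/
noncomputable def α : Cochain (tT X K) (tT (mappingCone φ) K) (-1) :=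
  Cochain.mk fun n m hnm => mapBifunctorDesc fun p q h =>
    (CochainComplex.mappingCone.inl φ).v p (p - 1) (by omega) ▷ K.X q ≫
      ιT (mappingCone φ) K (p - 1) q m (by have : p + q = n := h; omega)

theorem ι_α (p q n m : ℤ) (h : p + q = n) (hnm : n + (-1) = m) (p' : ℤ) (hp : p + (-1) = p') :
    ιT X K p q n h ≫ (α φ K).v n m hnm = (CochainComplex.mappingCone.inl φ).v p p' hp ▷ K.X q ≫
      ιT (mappingCone φ) K p' q m (by omega) := by
  obtain rfl : p' = p - 1 := by omega
  simp only [α, Cochain.mk_v]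
  exact ι_mapBifunctorDesc (c := ComplexShape.up ℤ) _ p q h

theorem d_inl_add (p : ℤ) (p' p'' : ℤ) (h' : p' + 1 = p) (h'' : p + 1 = p'') :
    (CochainComplex.mappingCone.inl φ).v p p' (by omega) ≫ (mappingCone φ).d p' p +
      X.d p p'' ≫ (CochainComplex.mappingCone.inl φ).v p'' p (by omega) =
      φ.f p ≫ (CochainComplex.mappingCone.inr φ).f p := by
  rw [CochainComplex.mappingCone.inl_v_d φ p p' p'' (by omega) (by omega)]
  abel

theorem δ_α : δ (-1) 0 (α φ K) =
    Cochain.ofHom (mapT K φ ≫ mapT K (CochainComplex.mappingCone.inr φ)) := by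
  refine Cochain.ext₀ _ _ fun n => hom_extT K fun p q h => ?_
  rw [δ_v (-1) 0 (by omega) _ n n (add_zero n) (n - 1) (n + 1) rfl rfl, Int.negOnePow_zero, one_smul,
    Preadditive.comp_add, ← Category.assoc, ι_α φ K p q n (n - 1) h (by omega) (p - 1) (by omega), Category.assoc,
    ιT_d' K (mappingCone φ) (p - 1) p q (n - 1) n (by omega) (by omega) (by omega),
    reassoc_of% (ιT_d X K p q n (n + 1) h rfl)]
  simp only [Preadditive.add_comp, Preadditive.comp_add, Linear.units_smul_comp, Linear.comp_units_smul,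
    Category.assoc]
  rw [ι_α φ K (p + 1) q (n + 1) n (by omega) (by omega) p (by omega), ι_α φ K p (q + 1) (n + 1) n (by omega) (by omega) (p - 1) (by omega),
    Cochain.ofHom_v, HomologicalComplex.comp_f, ← Category.assoc (ιT X K p q n h),
    ιT_map K φ p q n h, Category.assoc, ιT_map K (CochainComplex.mappingCone.inr φ) p q n h,
    whisker_exchange_assoc, ← comp_whiskerRight_assoc, ← comp_whiskerRight_assoc, ← comp_whiskerRight_assoc,
    ← d_inl_add φ p (p - 1) (p + 1) (by omega) rfl, MonoidalPreadditive.add_whiskerRight,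
    Preadditive.add_comp]
  have hsign : (p - 1).negOnePow = - p.negOnePow := by
    rw [Int.negOnePow_sub, Int.negOnePow_one]; simp
  rw [hsign, Units.neg_smul]
  abel

/-- The comparison map. -/
noncomputable def Φ : mappingCone (mapT K φ) ⟶ tT (mappingCone φ) K :=
  CochainComplex.mappingCone.desc (mapT K φ) (α φ K) (mapT K (CochainComplex.mappingCone.inr φ)) (δ_α φ K)

/-- Its inverse in each degree. -/
noncomputable def Ψ (n : ℤ) : (tT (mappingCone φ) K).X n ⟶ (mappingCone (mapT K φ)).X n :=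
  mapBifunctorDesc fun p q h =>
    ((CochainComplex.mappingCone.fst φ).1.v p (p + 1) rfl) ▷ K.X q ≫
        ιT X K (p + 1) q (n + 1) (by have : p + q = n := h; omega) ≫
          (CochainComplex.mappingCone.inl (mapT K φ)).v (n + 1) n (by omega) +
      ((CochainComplex.mappingCone.snd φ).v p p (add_zero p)) ▷ K.X q ≫ ιT Y K p q n h ≫
          (CochainComplex.mappingCone.inr (mapT K φ)).f n

theorem ι_Ψ (p q n : ℤ) (h : p + q = n) :
    ιT (mappingCone φ) K p q n h ≫ Ψ φ K n =
      ((CochainComplex.mappingCone.fst φ).1.v p (p + 1) rfl) ▷ K.X q ≫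
        ιT X K (p + 1) q (n + 1) (by omega) ≫
          (CochainComplex.mappingCone.inl (mapT K φ)).v (n + 1) n (by omega) +
      ((CochainComplex.mappingCone.snd φ).v p p (add_zero p)) ▷ K.X q ≫ ιT Y K p q n h ≫
          (CochainComplex.mappingCone.inr (mapT K φ)).f n :=
  ι_mapBifunctorDesc (c := ComplexShape.up ℤ) _ p q h

theorem Φ_Ψ (n : ℤ) : (Φ φ K).f n ≫ Ψ φ K n = 𝟙 _ := by
  rw [CochainComplex.mappingCone.ext_from_iff _ (n + 1) n rfl]
  constructor
  · rw [Category.comp_id, Φ, CochainComplex.mappingCone.inl_v_desc_f_assoc]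
    refine hom_extT K fun p q h => ?_
    obtain ⟨p, rfl⟩ : ∃ k, p = k + 1 := ⟨p - 1, by omega⟩
    rw [← Category.assoc, ι_α φ K (p + 1) q (n + 1) n h (by omega) p (by omega), Category.assoc, ι_Ψ]
    simp only [Preadditive.comp_add, ← comp_whiskerRight_assoc]
    rw [CochainComplex.mappingCone.inl_v_fst_v, CochainComplex.mappingCone.inl_v_snd_v]
    simp
  · rw [Category.comp_id, Φ, CochainComplex.mappingCone.inr_f_desc_f_assoc]
    refine hom_extT K fun p q h => ?_
    rw [← Category.assoc, ιT_map, Category.assoc, ι_Ψ]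
    simp only [Preadditive.comp_add, ← comp_whiskerRight_assoc]
    rw [CochainComplex.mappingCone.inr_f_fst_v, CochainComplex.mappingCone.inr_f_snd_v]
    simp

theorem Ψ_Φ (n : ℤ) : Ψ φ K n ≫ (Φ φ K).f n = 𝟙 _ := by
  refine hom_extT K fun p q h => ?_
  rw [← Category.assoc, ι_Ψ, Preadditive.add_comp, Category.comp_id]
  simp only [Category.assoc, Φ, CochainComplex.mappingCone.inl_v_desc_f,
    CochainComplex.mappingCone.inr_f_desc_f, ιT_map]
  rw [ι_α φ K (p + 1) q (n + 1) n (by omega) (by omega) p (by omega)]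
  simp only [← comp_whiskerRight_assoc]
  rw [← Preadditive.add_comp, ← MonoidalPreadditive.add_whiskerRight,
    CochainComplex.mappingCone.id_X, id_whiskerRight, Category.id_comp]

/-- Mapping cones commute with `- ⊗ K`. -/
noncomputable def coneIso : tT (mappingCone φ) K ≅ mappingCone (mapT K φ) :=
  haveI : ∀ n, IsIso ((Φ φ K).f n) := fun n => ⟨Ψ φ K n, Φ_Ψ φ K n, Ψ_Φ φ K n⟩
  (Hom.isoOfComponents (fun n => asIso ((Φ φ K).f n)) (fun i j _ => (Φ φ K).comm i j)).symm

theorem mapT_smul_id (r : A) : mapT K (r • 𝟙 X) = r • 𝟙 (tT X K) := by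
  refine HomologicalComplex.hom_ext _ _ fun n => hom_extT K fun p q h => ?_
  rw [ιT_map, smul_f_apply, smul_f_apply, id_f, id_f, Linear.comp_smul, Category.comp_id]
  refine (congrArg (· ≫ _) (MonoidalLinear.smul_whiskerRight r (𝟙 (X.X p)) (K.X q))).trans ?_
  rw [id_whiskerRight, Linear.smul_comp, Category.id_comp]

end KoszTenLib
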